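import Mathlib

/-!
# The composition length of a finite group, through subnormal chains
-/

set_option autoImplicit false

namespace Cfsg.Agent.MaxSub.CompLen

variable {G H : Type*} [Group G] [Group H]

/-- `SN A B k`: there is a strictly increasing chain of length `k` from `A` to `B`
in which each term is normal in the next. -/
inductive SN (A : Subgroup G) : Subgroup G → ℕ → Prop
  | refl : SN A A 0
  | step {B C : Subgroup G} {k : ℕ} : SN A B k → B < C →
      (∀ c ∈ C, ∀ b ∈ B, c * b * c⁻¹ ∈ B) → SN A C (k + 1)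

theorem SN.le {A B : Subgroup G} {k : ℕ} (h : SN A B k) : A ≤ B := by
  induction h with
  | refl => exact le_rfl
  | step _ hlt _ ih => exact ih.trans hlt.le

theorem SN.trans {A B C : Subgroup G} {i j : ℕ} (h : SN A B i) (h' : SN B C j) :
    SN A C (i + j) := by
  induction h' with
  | refl => exact h
  | step _ hlt hn ih => exact ih.step hlt hn

theorem SN.map {f : G →* H} (hf : Function.Injective f) {A B : Subgroup G} {k : ℕ}
    (h : SN A B k) : SN (A.map f) (B.map f) k := by
  induction h with
  | refl => exact .refl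
  | step _ hlt hn ih =>
    refine ih.step ((Subgroup.map_lt_map_iff_of_injective hf).2 hlt) ?_
    rintro _ ⟨c, hc, rfl⟩ _ ⟨b, hb, rfl⟩
    exact ⟨c * b * c⁻¹, hn c hc b hb, by simp⟩

theorem SN.comap {f : G →* H} (hf : Function.Surjective f) {A B : Subgroup H} {k : ℕ}
    (h : SN A B k) : SN (A.comap f) (B.comap f) k := by
  induction h with
  | refl => exact .refl
  | step _ hlt hn ih =>
    refine ih.step ((Subgroup.comap_lt_comap_of_surjective hf).2 hlt) ?_
    intro c hc b hb
    simp only [Subgroup.mem_comap, map_mul, map_inv] at *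
    exact hn _ hc _ hb

theorem SN.two_pow_le [Finite G] {A B : Subgroup G} {k : ℕ} (h : SN A B k) :
    2 ^ k * Nat.card A ≤ Nat.card B := by
  induction h with
  | refl => simp
  | @step B C k _ hlt _ ih =>
    obtain ⟨d, hd⟩ := Subgroup.card_dvd_of_le hlt.le
    have hpos : 0 < Nat.card C := Nat.card_pos
    have hne : Nat.card B ≠ Nat.card C := fun e =>
      hlt.ne (Subgroup.eq_of_le_of_card_ge hlt.le e.ge)
    have : 2 ≤ d := by
      rcases d with _ | _ | d
      · omega
      · omega
      · omega
    calc 2 ^ (k + 1) * Nat.card A = 2 * (2 ^ k * Nat.card A) := by ring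
      _ ≤ 2 * Nat.card B := by omega
      _ ≤ Nat.card B * d := by rw [Nat.mul_comm]; exact Nat.mul_le_mul_left _ this
      _ = Nat.card C := hd.symm

open ArithmeticFunction in
theorem SN.add_cardFactors_le [Finite G] {A B : Subgroup G} {k : ℕ} (h : SN A B k) :
    k + cardFactors (Nat.card A) ≤ cardFactors (Nat.card B) := by
  induction h with
  | refl => simp
  | @step B C k _ hlt _ ih =>
    obtain ⟨d, hd⟩ := Subgroup.card_dvd_of_le hlt.le
    have hpos : 0 < Nat.card C := Nat.card_pos
    have hne : Nat.card B ≠ Nat.card C := fun e =>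
      hlt.ne (Subgroup.eq_of_le_of_card_ge hlt.le e.ge)
    have hd0 : d ≠ 0 := by rintro rfl; simp at hd; omega
    have hd1 : d ≠ 1 := by rintro rfl; simp at hd; omega
    have : 0 < cardFactors d := cardFactors_pos_iff_one_lt.2 (by omega)
    rw [hd, cardFactors_mul Nat.card_pos.ne' hd0]
    omega

section clen

/-- The composition length of a group. -/
noncomputable def clen (G : Type*) [Group G] : ℕ :=
  sSup {k | SN (⊥ : Subgroup G) ⊤ k}

theorem bddAbove_chain (G : Type*) [Group G] [Finite G] :
    BddAbove {k | SN (⊥ : Subgroup G) ⊤ k} := by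
  refine ⟨Nat.card G, fun k hk => ?_⟩
  have := SN.two_pow_le hk
  simp only [Subgroup.card_bot, mul_one, Subgroup.card_top] at this
  exact (Nat.lt_two_pow_self).le.trans this

theorem nonempty_chain (G : Type*) [Group G] :
    {k | SN (⊥ : Subgroup G) ⊤ k}.Nonempty := by
  rcases eq_or_ne (⊥ : Subgroup G) ⊤ with h | h
  · exact ⟨0, (show SN (⊥ : Subgroup G) ⊤ 0 from h ▸ SN.refl)⟩
  · refine ⟨1, SN.refl.step (lt_of_le_of_ne bot_le h) fun c _ b hb => ?_⟩
    rw [Subgroup.mem_bot] at hb ⊢
    simp [hb]

theorem exists_chain (G : Type*) [Group G] [Finite G] :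
    SN (⊥ : Subgroup G) ⊤ (clen G) :=
  Nat.sSup_mem (nonempty_chain G) (bddAbove_chain G)

theorem le_clen [Finite G] {k : ℕ} (h : SN (⊥ : Subgroup G) ⊤ k) : k ≤ clen G :=
  le_csSup (bddAbove_chain G) h

theorem clen_le [Finite G] {m : ℕ} (h : ∀ k, SN (⊥ : Subgroup G) ⊤ k → k ≤ m) : clen G ≤ m :=
  csSup_le (nonempty_chain G) h

theorem clen_congr [Finite G] (e : G ≃* H) : clen G = clen H := by
  have : Finite H := Finite.of_equiv G e.toEquiv
  refine le_antisymm ?_ ?_
  · have := (exists_chain G).map (f := e.toMonoidHom) e.injective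
    rw [Subgroup.map_bot, ← MonoidHom.range_eq_map,
      MonoidHom.range_eq_top.2 e.surjective] at this
    exact le_clen this
  · have := (exists_chain H).map (f := e.symm.toMonoidHom) e.symm.injective
    rw [Subgroup.map_bot, ← MonoidHom.range_eq_map,
      MonoidHom.range_eq_top.2 e.symm.surjective] at this
    exact le_clen this

open ArithmeticFunction in
theorem clen_le_cardFactors [Finite G] : clen G ≤ cardFactors (Nat.card G) := by
  refine clen_le fun k hk => ?_
  have := hk.add_cardFactors_le
  simpa using this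

theorem clen_eq_zero [Finite G] [Subsingleton G] : clen G = 0 := by
  have := clen_le_cardFactors (G := G)
  rw [Nat.card_unique] at this
  simpa using this

theorem one_le_clen [Finite G] [Nontrivial G] : 1 ≤ clen G := by
  refine le_clen (SN.refl.step (lt_of_le_of_ne bot_le bot_ne_top) fun c _ b hb => ?_)
  rw [Subgroup.mem_bot] at hb ⊢
  simp [hb]

theorem clen_simple [Finite G] [IsSimpleGroup G] : clen G ≤ 1 := by
  refine clen_le fun k hk => ?_
  suffices ∀ B j, SN (⊥ : Subgroup G) B j → B = ⊤ → j ≤ 1 from this _ _ hk rfl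
  intro B j hj
  induction hj with
  | refl => intro _; omega
  | @step B C j hB hlt hn _ =>
    rintro rfl
    have : B.Normal := ⟨fun b hb c => hn c trivial b hb⟩
    rcases this.eq_bot_or_eq_top with rfl | rfl
    · cases hB with
      | refl => omega
      | step h h' _ => exact absurd h' not_lt_bot
    · exact absurd hlt (lt_irrefl _)

theorem exists_split (f : G →* H) {A B : Subgroup G} {k : ℕ} (h : SN A B k) :
    ∃ a b, k ≤ a + b ∧ SN (A.subgroupOf f.ker) (B.subgroupOf f.ker) a ∧
      SN (A.map f) (B.map f) b := by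
  induction h with
  | refl => exact ⟨0, 0, le_rfl, .refl, .refl⟩
  | @step B C k _ hlt hn ih =>
    obtain ⟨a, b, hk, ha, hb⟩ := ih
    have n1 : ∀ c ∈ C.subgroupOf f.ker, ∀ x ∈ B.subgroupOf f.ker,
        c * x * c⁻¹ ∈ B.subgroupOf f.ker := by
      intro c hc x hx
      simp only [Subgroup.mem_subgroupOf, Subgroup.coe_mul, Subgroup.coe_inv] at *
      exact hn _ hc _ hx
    have n2 : ∀ c ∈ C.map f, ∀ x ∈ B.map f, c * x * c⁻¹ ∈ B.map f := by
      rintro _ ⟨c, hc, rfl⟩ _ ⟨x, hx, rfl⟩
      exact ⟨c * x * c⁻¹, hn c hc x hx, by simp⟩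
    have l1 : B.subgroupOf f.ker ≤ C.subgroupOf f.ker := fun x hx => hlt.le hx
    have l2 : B.map f ≤ C.map f := Subgroup.map_mono hlt.le
    by_cases e1 : B.subgroupOf f.ker = C.subgroupOf f.ker
    · have e2 : B.map f ≠ C.map f := by
        intro e2
        refine hlt.ne (le_antisymm hlt.le fun c hc => ?_)
        obtain ⟨x, hx, hxc⟩ := (e2 ▸ ⟨c, hc, rfl⟩ : f c ∈ B.map f)
        have hk' : x⁻¹ * c ∈ f.ker := by simp [MonoidHom.mem_ker, hxc]
        have : (⟨_, hk'⟩ : f.ker) ∈ C.subgroupOf f.ker :=
          C.mul_mem (C.inv_mem (hlt.le hx)) hc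
        rw [← e1] at this
        simpa using B.mul_mem hx this
      exact ⟨a, b + 1, by omega, e1 ▸ ha, hb.step (lt_of_le_of_ne l2 e2) n2⟩
    · by_cases e2 : B.map f = C.map f
      · exact ⟨a + 1, b, by omega, ha.step (lt_of_le_of_ne l1 e1) n1, e2 ▸ hb⟩
      · exact ⟨a + 1, b + 1, by omega, ha.step (lt_of_le_of_ne l1 e1) n1,
          hb.step (lt_of_le_of_ne l2 e2) n2⟩

theorem clen_le_ker_add_range [Finite G] (f : G →* H) :
    clen G ≤ clen f.ker + clen f.range := by
  have : Finite f.range := Finite.of_surjective _ f.rangeRestrict_surjective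
  refine clen_le fun k hk => ?_
  obtain ⟨a, b, hk', ha, hb⟩ := exists_split f.rangeRestrict hk
  rw [Subgroup.bot_subgroupOf, Subgroup.top_subgroupOf] at ha
  rw [Subgroup.map_bot, ← MonoidHom.range_eq_map,
    MonoidHom.range_eq_top.2 f.rangeRestrict_surjective] at hb
  have e : clen f.rangeRestrict.ker = clen f.ker :=
    clen_congr (MulEquiv.subgroupCongr (MonoidHom.ker_rangeRestrict f))
  have := le_clen ha
  have := le_clen hb
  omega

theorem clen_ker_add_le [Finite G] (f : G →* H) (hf : Function.Surjective f) :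
    clen f.ker + clen H ≤ clen G := by
  have : Finite H := Finite.of_surjective f hf
  have h1 := (exists_chain f.ker).map (f := f.ker.subtype) f.ker.subtype_injective
  rw [Subgroup.map_bot, ← MonoidHom.range_eq_map, Subgroup.range_subtype] at h1
  have h2 := (exists_chain H).comap hf
  rw [Subgroup.comap_top, MonoidHom.comap_bot] at h2
  exact le_clen (h1.trans h2)

theorem clen_le_add {N : Subgroup G} [N.Normal] [Finite G] :
    clen G ≤ clen N + clen (G ⧸ N) := by
  have := clen_le_ker_add_range (QuotientGroup.mk' N)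
  rw [clen_congr (MulEquiv.subgroupCongr (QuotientGroup.ker_mk' N)),
    clen_congr ((MulEquiv.subgroupCongr (MonoidHom.range_eq_top.2
      (QuotientGroup.mk'_surjective N))).trans Subgroup.topEquiv)] at this
  exact this

/-- A chain as in the statement gives an `SN` chain. -/
theorem sn_of_fin {l : ℕ} (H : Fin (l + 1) → Subgroup G)
    (hchain : ∀ i : Fin l,
      H i.castSucc < H i.succ ∧ ((H i.castSucc).subgroupOf (H i.succ)).Normal) :
    ∀ j : ℕ, (hj : j ≤ l) → SN (H 0) (H ⟨j, by omega⟩) j := by
  intro j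
  induction j with
  | zero => intro _; exact .refl
  | succ j ih =>
    intro hj
    obtain ⟨hlt, hn⟩ := hchain ⟨j, hj⟩
    refine (ih (by omega)).step hlt fun c hc b hb => ?_
    exact hn.conj_mem ⟨b, hlt.le hb⟩ hb ⟨c, hc⟩

end clen

end Cfsg.Agent.MaxSub.CompLen
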