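import Cfsg.Agent.MaxSub.CompLen.Prim

/-!
# `3 * clen G ≤ 4 * (n - r)` for a faithful action with `n` points and `r` orbits
-/

set_option autoImplicit false

namespace Cfsg.Agent.MaxSub.CompLen

open MulAction
open scoped Classical Pointwise

universe v

variable {G Ω : Type v} [Group G] [MulAction G Ω]

theorem one_le_nOrb [Finite Ω] [Nonempty Ω] : 1 ≤ nOrb G Ω := by
  have : Nonempty (orbitRel.Quotient G Ω) := ⟨Quotient.mk _ (Classical.arbitrary Ω)⟩
  exact Nat.card_pos

theorem nOrb_le_card [Finite Ω] : nOrb G Ω ≤ Nat.card Ω :=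
  Nat.card_le_card_of_surjective _ Quotient.mk_surjective

/-- The induction hypothesis: the bound for all smaller actions. -/
def IH (M : ℕ) : Prop :=
  ∀ (G' Ω' : Type v) [Group G'] [Finite G'] [Finite Ω'] [MulAction G' Ω'] [FaithfulSMul G' Ω'],
    Nat.card Ω' + Nat.card G' < M → 3 * clen G' + 4 * nOrb G' Ω' ≤ 4 * Nat.card Ω'

theorem IH.sub {M : ℕ} (ih : IH.{v} M) [Finite G] [Finite Ω] [FaithfulSMul G Ω]
    (hM : M = Nat.card Ω + Nat.card G) {H : Subgroup G} (hH : H ≠ ⊤) :
    3 * clen H + 4 * nOrb H Ω ≤ 4 * Nat.card Ω := by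
  refine ih H Ω ?_
  rw [hM]
  exact Nat.add_lt_add_left (lt_of_le_of_ne (Subgroup.card_le_card_group H)
    fun e => hH (Subgroup.eq_top_of_card_eq H e)) _

theorem IH.image {M : ℕ} (ih : IH.{v} M) [Finite G] [Finite Ω] {X : Type v} [Finite X]
    [Nonempty X] [MulAction G X] (hM : M = Nat.card Ω + Nat.card G)
    (hX : Nat.card X < Nat.card Ω) :
    3 * clen (toPermHom G X).range + 4 ≤ 4 * Nat.card X := by
  have : FaithfulSMul (toPermHom G X).range X :=
    ⟨fun {a b} h => Subtype.ext (Equiv.Perm.ext fun x => h x)⟩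
  have h1 := ih (toPermHom G X).range X (by
    rw [hM]
    refine Nat.add_lt_add_of_lt_of_le hX ?_
    exact Nat.card_le_card_of_surjective _ (toPermHom G X).rangeRestrict_surjective)
  have := one_le_nOrb (G := (toPermHom G X).range) (Ω := X)
  omega

theorem intransitive_step {M : ℕ} (ih : IH.{v} M) [Finite G] [Finite Ω] [FaithfulSMul G Ω]
    (hM : M = Nat.card Ω + Nat.card G) (a : Ω) (hmove : ∃ g : G, g • a ≠ a)
    (hnot : orbit G a ≠ Set.univ) :
    3 * clen G + 4 * nOrb G Ω ≤ 4 * Nat.card Ω := by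
  let Δ := orbit G a
  let f := toPermHom G Δ
  have hK : f.ker ≠ ⊤ := by
    intro h
    obtain ⟨g, hg⟩ := hmove
    have hgk : g ∈ f.ker := h ▸ Subgroup.mem_top g
    exact hg (congrArg Subtype.val
      (DFunLike.congr_fun (MonoidHom.mem_ker.1 hgk) (⟨a, mem_orbit_self a⟩ : Δ)))
  have h1 := ih.sub hM hK
  have hlt : Nat.card Δ < Nat.card Ω := by
    rw [Nat.card_coe_set_eq]
    exact Set.ncard_lt_card hnot
  have : Nonempty Δ := ⟨⟨a, mem_orbit_self a⟩⟩
  have h2 := ih.image (X := Δ) hM hlt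
  have h3 : clen G ≤ clen f.ker + clen (toPermHom G Δ).range := clen_le_ker_add_range f
  have h4 : Nat.card Δ + nOrb G Ω ≤ nOrb f.ker Ω + 1 := by
    let qa : orbitRel.Quotient G Ω := Quotient.mk _ a
    let F : Ω → Δ ⊕ orbitRel.Quotient G Ω := fun x =>
      if h : x ∈ Δ then Sum.inl ⟨x, h⟩ else Sum.inr (Quotient.mk _ x)
    have hF : ∀ (g : f.ker) x, F (g • x) = F x := by
      intro g x
      have hmem : (g : G) • x ∈ Δ ↔ x ∈ Δ := by
        constructor
        · rintro ⟨u, hu⟩
          exact ⟨(g : G)⁻¹ * u, by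
            show ((g : G)⁻¹ * u) • a = x
            rw [mul_smul]; exact inv_smul_eq_iff.2 hu⟩
        · rintro ⟨u, rfl⟩
          exact ⟨g * u, mul_smul _ _ _⟩
      by_cases hx : x ∈ Δ
      · have : (g : G) • x = x := congrArg Subtype.val (DFunLike.congr_fun (MonoidHom.mem_ker.1 g.2) (⟨x, hx⟩ : Δ))
        show F ((g : G) • x) = F x
        rw [this]
      · simp only [F]
        rw [dif_neg (show ¬ g • x ∈ Δ from fun h => hx (hmem.1 h)), dif_neg hx]
        exact congrArg Sum.inr (Quotient.sound ⟨(g : G), rfl⟩)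
    have h5 := le_nOrb (G := f.ker) F hF (insert (Sum.inr qa) (Set.range F) \ {Sum.inr qa})
      (fun y hy => hy.1.resolve_left hy.2)
    have hins : insert (Sum.inr qa) (Set.range F) = Set.univ := by
      refine Set.eq_univ_of_forall ?_
      rintro (⟨x, hx⟩ | q)
      · exact Or.inr ⟨x, dif_pos hx⟩
      · induction q using Quotient.inductionOn with
        | _ x =>
          by_cases hx : x ∈ Δ
          · exact Or.inl (congrArg Sum.inr (Quotient.sound hx))
          · exact Or.inr ⟨x, dif_neg hx⟩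
    rw [hins, Set.ncard_diff (Set.subset_univ _), Set.ncard_univ, Set.ncard_singleton,
      Nat.card_sum] at h5
    have : 1 ≤ nOrb G Ω := by
      have : Nonempty Ω := ⟨a⟩
      exact one_le_nOrb
    change Nat.card Δ + nOrb G Ω - 1 ≤ _ at h5
    omega
  omega

theorem imprimitive_step {M : ℕ} (ih : IH.{v} M) [Finite G] [Finite Ω] [FaithfulSMul G Ω]
    [IsPretransitive G Ω] (hM : M = Nat.card Ω + Nat.card G) {B : Set Ω}
    (hB : IsBlock G B) (hnt : B.Nontrivial) (hBu : B ≠ Set.univ) :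
    3 * clen G + 4 ≤ 4 * Nat.card Ω := by
  obtain ⟨a, ha⟩ := hnt.nonempty
  let X := orbit G B
  let f := toPermHom G X
  have : Nonempty X := ⟨⟨B, mem_orbit_self B⟩⟩
  have hg : ∀ x : Ω, ∃ g : G, g • a = x := fun x => exists_smul_eq G a x
  choose γ hγ using hg
  let F : Ω → X := fun x => ⟨γ x • B, ⟨γ x, rfl⟩⟩
  have hblock : ∀ g g' : G, ((g • B) ∩ (g' • B)).Nonempty → g • B = g' • B := fun g g' h =>
    hB.smul_eq_smul_of_nonempty h
  have hFx : ∀ x (g : G), x ∈ g • B → (F x : Set Ω) = g • B := fun x g hx => by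
    refine hblock _ _ ⟨x, ?_, hx⟩
    have h := Set.smul_mem_smul_set (a := γ x) ha
    rwa [hγ x] at h
  have hsurj : Function.Surjective F := by
    rintro ⟨_, g, rfl⟩
    exact ⟨g • a, Subtype.ext (hFx _ g (Set.smul_mem_smul_set ha))⟩
  have hninj : ¬ Function.Injective F := by
    obtain ⟨x, hx, y, hy, hxy⟩ := hnt
    refine fun h => hxy (h (Subtype.ext ?_))
    rw [hFx x 1 (by rwa [one_smul]), hFx y 1 (by rwa [one_smul])]
  have hlt : Nat.card X < Nat.card Ω := by
    refine lt_of_le_of_ne (Nat.card_le_card_of_surjective F hsurj) fun e => hninj ?_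
    exact ((Nat.bijective_iff_surjective_and_card F).2 ⟨hsurj, e.symm⟩).1
  have hK : f.ker ≠ ⊤ := by
    intro h
    refine hBu (Set.eq_univ_of_forall fun x => ?_)
    obtain ⟨g, rfl⟩ := exists_smul_eq G a x
    have hgk : g ∈ f.ker := h ▸ Subgroup.mem_top g
    have : g • B = B := congrArg Subtype.val
      (DFunLike.congr_fun (MonoidHom.mem_ker.1 hgk) (⟨B, mem_orbit_self B⟩ : X))
    exact this ▸ Set.smul_mem_smul_set ha
  have h1 := ih.sub hM hK
  have h2 := ih.image (X := X) hM hlt
  have h3 : clen G ≤ clen f.ker + clen (toPermHom G X).range := clen_le_ker_add_range f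
  have hF : ∀ (g : f.ker) x, F (g • x) = F x := by
    intro g x
    have hfix : (g : G) • (F x : Set Ω) = F x :=
      congrArg Subtype.val (DFunLike.congr_fun (MonoidHom.mem_ker.1 g.2) (F x))
    refine Subtype.ext ((hFx _ (γ x) ?_).trans rfl)
    show (g : G) • x ∈ (F x : Set Ω)
    rw [← hfix]
    exact Set.smul_mem_smul_set (show x ∈ γ x • B from
      Eq.subst (motive := fun y => y ∈ γ x • B) (hγ x) (Set.smul_mem_smul_set ha))
  have h4 := le_nOrb (G := f.ker) F hF Set.univ (by rw [hsurj.range_eq])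
  rw [Set.ncard_univ] at h4
  omega

theorem bound : ∀ M : ℕ, IH.{v} M := by
  intro M
  induction M using Nat.strong_induction_on with
  | _ M ihM =>
    intro G Ω _ _ _ _ _ hlt
    have ih : IH.{v} (Nat.card Ω + Nat.card G) := ihM _ hlt
    rcases subsingleton_or_nontrivial G with hG | hG
    · rw [clen_eq_zero]
      have := nOrb_le_card (G := G) (Ω := Ω)
      omega
    obtain ⟨g, hg⟩ := exists_ne (1 : G)
    obtain ⟨a, ha⟩ : ∃ a : Ω, g • a ≠ a := by
      by_contra h
      push Not at h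
      exact hg (eq_of_smul_eq_smul (α := Ω) fun x => by rw [h x, one_smul])
    by_cases htr : orbit G a = Set.univ
    swap
    · exact intransitive_step ih rfl a ⟨g, ha⟩ htr
    have : IsPretransitive G Ω := ⟨fun x y => by
      obtain ⟨u, rfl⟩ : x ∈ orbit G a := htr ▸ Set.mem_univ x
      obtain ⟨w, rfl⟩ : y ∈ orbit G a := htr ▸ Set.mem_univ y
      exact ⟨w * u⁻¹, by simp [mul_smul]⟩⟩
    have h2 : 2 ≤ Nat.card Ω := by
      have : Nontrivial Ω := ⟨⟨_, _, ha⟩⟩
      exact Finite.one_lt_card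
    have hq : nOrb G Ω = 1 := by
      have : Subsingleton (orbitRel.Quotient G Ω) :=
        (pretransitive_iff_subsingleton_quotient G Ω).1 inferInstance
      have : Nonempty Ω := ⟨a⟩
      have : Nonempty (orbitRel.Quotient G Ω) := ⟨Quotient.mk _ a⟩
      exact Nat.card_unique
    rw [hq]
    by_cases hp : IsPreprimitive G Ω
    · refine prim_step h2 fun b => ih.sub rfl fun h => ?_
      refine ha ?_
      obtain ⟨u, hu⟩ := exists_smul_eq G b a
      have : u⁻¹ * g * u ∈ stabilizer G b := h ▸ Subgroup.mem_top _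
      rw [mem_stabilizer_iff, mul_smul, mul_smul, hu, inv_smul_eq_iff, hu] at this
      exact this
    · obtain ⟨B, hB, hnt⟩ : ∃ B : Set Ω, IsBlock G B ∧ ¬ IsTrivialBlock B := by
        by_contra h
        push Not at h
        exact hp ⟨fun {B} hB => h B hB⟩
      simp only [IsTrivialBlock, not_or] at hnt
      exact imprimitive_step ih rfl hB (Set.not_subsingleton_iff.1 hnt.1) hnt.2

end Cfsg.Agent.MaxSub.CompLen
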