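import Cfsg.Agent.MaxSub.CompLen.Basic

/-!
# Powers of a non-abelian simple group: factor maps, subdirect subgroups and weights
-/

set_option autoImplicit false

namespace Cfsg.Agent.MaxSub.CompLen

open scoped Classical

/-- The subgroup of a product supported on a set of coordinates. -/
def supp {ι : Type*} (A : ι → Type*) [∀ i, Group (A i)] (s : Set ι) : Subgroup (∀ i, A i) where
  carrier := {x | ∀ i, i ∉ s → x i = 1}
  one_mem' _ _ := rfl
  mul_mem' hx hy i hi := by simp [hx i hi, hy i hi]
  inv_mem' hx i hi := by simp [hx i hi]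

/-- A product of nontrivial groups has composition length at least the number of factors. -/
theorem card_le_clen_pi {ι : Type*} [Fintype ι] (A : ι → Type*) [∀ i, Group (A i)]
    [∀ i, Finite (A i)] (hA : ∀ i, Nontrivial (A i)) :
    Fintype.card ι ≤ clen (∀ i, A i) := by
  set e := Fintype.equivFin ι
  let S : ℕ → Subgroup (∀ i, A i) := fun m => supp A {i | (e i : ℕ) < m}
  have h0 : S 0 = ⊥ := by
    refine eq_bot_iff.2 fun x hx => Subgroup.mem_bot.2 ?_
    funext i; exact hx i (by simp)
  have hl : S (Fintype.card ι) = ⊤ :=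
    eq_top_iff.2 fun x _ i hi => absurd (e i).2 hi
  have hn : ∀ m, ∀ c, ∀ x ∈ S m, c * x * c⁻¹ ∈ S m := by
    intro m c x hx i hi; simp [hx i hi]
  suffices ∀ m ≤ Fintype.card ι, SN (⊥ : Subgroup (∀ i, A i)) (S m) m by
    exact le_clen (hl ▸ this _ le_rfl)
  intro m hm
  induction m with
  | zero => exact h0 ▸ .refl
  | succ m ih =>
    refine (ih (by omega)).step (lt_of_le_not_ge ?_ ?_) fun c _ => hn m c
    · intro x hx i hi
      exact hx i fun h' : (e i : ℕ) < m => hi (show (e i : ℕ) < m + 1 by omega)
    · intro h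
      let j := e.symm ⟨m, hm⟩
      obtain ⟨a, ha⟩ := exists_ne (1 : A j)
      have hej : (e j : ℕ) = m := by simp [j]
      have : Pi.mulSingle j a ∈ S (m + 1) := fun i hi => by
        refine Pi.mulSingle_eq_of_ne (fun e' => hi ?_) _
        subst e'; show (e _ : ℕ) < m + 1; omega
      have := h this j (by show ¬ (e j : ℕ) < m; omega)
      rw [Pi.mulSingle_eq_same] at this
      exact ha this

variable {T : Type*} [Group T] [IsSimpleGroup T]

theorem clen_fin_pow [Finite T] : ∀ k : ℕ, clen (Fin k → T) ≤ k
  | 0 => by rw [clen_eq_zero]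
  | k + 1 => by
    let f : (Fin (k + 1) → T) →* T := Pi.evalMonoidHom (fun _ => T) 0
    have h1 := clen_le_ker_add_range f
    have e1 : f.ker ≃* (Fin k → T) :=
      { toFun := fun x i => x.1 i.succ
        invFun := fun y => ⟨Fin.cons 1 y, by simp [f, MonoidHom.mem_ker]⟩
        left_inv := fun x => by
          ext i
          cases i using Fin.cases with
          | zero => simpa [f, MonoidHom.mem_ker] using x.2.symm
          | succ i => simp
        right_inv := fun y => by funext i; simp
        map_mul' := fun x y => rfl }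
    have e2 : f.range ≃* T :=
      (MulEquiv.subgroupCongr (MonoidHom.range_eq_top.2 fun t => ⟨fun _ => t, rfl⟩)).trans
        Subgroup.topEquiv
    rw [clen_congr e1, clen_congr e2] at h1
    have := clen_simple (G := T)
    have := clen_fin_pow k
    omega

/-- A surjection from a power of a non-abelian simple group onto the group factors through
one coordinate. -/
theorem surj_factor [Finite T] (hna : ¬ IsMulCommutative T) {ι : Type*} [Fintype ι]
    (f : (ι → T) →* T) (hf : Function.Surjective f) :
    ∃ (j : ι) (φ : T ≃* T), ∀ x, f x = φ (x j) := by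
  let g : ι → T →* T := fun i => f.comp (MonoidHom.mulSingle (fun _ => T) i)
  have hg : ∀ i, g i = 1 ∨ Function.Surjective (g i) := by
    intro i
    have hn : (g i).range.Normal := by
      refine ⟨?_⟩
      rintro _ ⟨a, rfl⟩ t
      obtain ⟨x, rfl⟩ := hf t
      refine ⟨x i * a * (x i)⁻¹, ?_⟩
      show f (Pi.mulSingle i _) = f x * f (Pi.mulSingle i a) * (f x)⁻¹
      rw [← map_inv, ← map_mul, ← map_mul]
      congr 1
      funext l
      by_cases hl : l = i
      · subst hl; simp
      · simp [Pi.mulSingle_eq_of_ne hl]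
    rcases hn.eq_bot_or_eq_top with h | h
    · exact Or.inl (MonoidHom.range_eq_bot_iff.1 h)
    · exact Or.inr (MonoidHom.range_eq_top.1 h)
  obtain ⟨j, hj⟩ : ∃ j, g j ≠ 1 := by
    by_contra h
    push Not at h
    have hall : (⊤ : Subgroup (ι → T)) ≤ f.ker := fun x _ =>
      Subgroup.pi_mem_of_mulSingle_mem x fun i => by
        rw [MonoidHom.mem_ker]; exact DFunLike.congr_fun (h i) (x i)
    obtain ⟨t, ht⟩ := exists_ne (1 : T)
    obtain ⟨x, rfl⟩ := hf t
    exact ht (hall (Subgroup.mem_top x))
  have hjs := (hg j).resolve_left hj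
  have hoth : ∀ i, i ≠ j → g i = 1 := by
    intro i hij
    refine (hg i).resolve_right fun his => hna ⟨⟨fun a b => ?_⟩⟩
    obtain ⟨a, rfl⟩ := his a
    obtain ⟨b, rfl⟩ := hjs b
    exact ((Pi.mulSingle_commute (f := fun _ : ι => T) hij a b).map f)
  have hinj : Function.Injective (g j) :=
    (Finite.injective_iff_surjective).2 hjs
  refine ⟨j, MulEquiv.ofBijective (g j) ⟨hinj, hjs⟩, fun x => ?_⟩
  show f x = f (Pi.mulSingle j (x j))
  have hk : x * (Pi.mulSingle j (x j))⁻¹ ∈ f.ker := by
    refine Subgroup.pi_mem_of_mulSingle_mem _ fun i => ?_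
    rw [MonoidHom.mem_ker]
    by_cases hi : i = j
    · subst hi; simp
    · exact DFunLike.congr_fun (hoth i hi) _
  rw [MonoidHom.mem_ker, map_mul, map_inv, mul_inv_eq_one] at hk
  exact hk

/-- Weight: the number of non-trivial coordinates. -/
noncomputable def wt {ι : Type*} [Fintype ι] (x : ι → T) : ℕ :=
  (Finset.univ.filter fun i => x i ≠ 1).card

omit [IsSimpleGroup T] in
theorem wt_eq_zero {ι : Type*} [Fintype ι] {x : ι → T} : wt x = 0 ↔ x = 1 := by
  simp [wt, Finset.filter_eq_empty_iff, funext_iff]

omit [IsSimpleGroup T] in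
theorem wt_le_wt_add_one {ι : Type*} [Fintype ι] {x y : ι → T} (j : ι)
    (h : ∀ i, i ≠ j → x i = y i) : wt x ≤ wt y + 1 := by
  refine le_trans (Finset.card_le_card (t := insert j (Finset.univ.filter fun i => y i ≠ 1)) ?_)
    (Finset.card_insert_le _ _)
  intro i hi
  simp only [Finset.mem_filter, Finset.mem_univ, true_and, Finset.mem_insert] at hi ⊢
  by_cases hij : i = j
  · exact Or.inl hij
  · exact Or.inr (h i hij ▸ hi)

/-- An automorphism of a power of a non-abelian simple group permutes the coordinates. -/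
theorem mulEquiv_factor [Finite T] (hna : ¬ IsMulCommutative T) {ι : Type*} [Fintype ι]
    (ψ : (ι → T) ≃* (ι → T)) :
    ∃ (σ : Equiv.Perm ι) (φ : ι → T ≃* T), ∀ x i, ψ x i = φ i (x (σ i)) := by
  have h : ∀ i, ∃ (j : ι) (φ : T ≃* T), ∀ x, ψ x i = φ (x j) := fun i =>
    surj_factor hna ((Pi.evalMonoidHom (fun _ => T) i).comp ψ.toMonoidHom)
      fun t => ⟨ψ.symm fun _ => t, by simp⟩
  choose σ φ hφ using h
  have hinj : Function.Injective σ := by
    intro a b hab
    by_contra hne
    obtain ⟨t, ht⟩ := exists_ne (1 : T)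
    have ha := hφ a (ψ.symm (Pi.mulSingle a t))
    have hb := hφ b (ψ.symm (Pi.mulSingle a t))
    rw [MulEquiv.apply_symm_apply, hab, Pi.mulSingle_eq_same] at ha
    rw [MulEquiv.apply_symm_apply, Pi.mulSingle_eq_of_ne (Ne.symm hne), eq_comm,
      map_eq_one_iff _ (φ b).injective] at hb
    rw [hb, map_one] at ha
    exact ht ha
  exact ⟨Equiv.ofBijective σ ((Finite.injective_iff_bijective).1 hinj), φ,
    fun x i => hφ i x⟩

theorem wt_mulEquiv [Finite T] (hna : ¬ IsMulCommutative T) {ι : Type*} [Fintype ι]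
    (ψ : (ι → T) ≃* (ι → T)) (x : ι → T) : wt (ψ x) = wt x := by
  obtain ⟨σ, φ, h⟩ := mulEquiv_factor hna ψ
  refine Finset.card_equiv σ fun i => ?_
  simp [h]

theorem count_mod_four (s c : ℕ) :
    4 * ((Finset.range s).filter fun j => j % 4 = c).card ≤ s + 3 := by
  have : ((Finset.range s).filter fun j => j % 4 = c).card ≤ (Finset.range ((s + 3) / 4)).card := by
    refine Finset.card_le_card_of_injOn (fun j => j / 4) ?_ ?_
    · intro j hj
      simp only [Finset.coe_filter, Finset.mem_range, Set.mem_ofPred_eq] at hj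
      simp only [Finset.coe_range, Set.mem_Iio]
      omega
    · intro a ha b hb hab
      simp only [Finset.coe_filter, Finset.mem_range, Set.mem_ofPred_eq] at ha hb
      simp only at hab
      omega
  rw [Finset.card_range] at this
  omega

end Cfsg.Agent.MaxSub.CompLen
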