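import Cfsg.Agent.MaxSub.CompLen.Weight
import Cfsg.Agent.PermB.MinNormalPower
import Cfsg.Agent.Lib.Solvable.Basic

/-!
# The primitive step of the composition length bound
-/

set_option autoImplicit false

namespace Cfsg.Agent.MaxSub.CompLen

open MulAction
open scoped Classical Pointwise

variable {G Ω : Type*} [Group G] [MulAction G Ω]

/-- The number of orbits. -/
noncomputable def nOrb (G Ω : Type*) [Group G] [MulAction G Ω] : ℕ :=
  Nat.card (orbitRel.Quotient G Ω)

theorem le_nOrb [Finite Ω] {X : Type*} (f : Ω → X) (hf : ∀ (g : G) x, f (g • x) = f x)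
    (s : Set X) (hs : s ⊆ Set.range f) : s.ncard ≤ nOrb G Ω := by
  let F : orbitRel.Quotient G Ω → X := Quotient.lift f fun a b hab => by
    obtain ⟨g, rfl⟩ := (orbitRel_apply.1 hab); exact hf g b
  have hr : Set.range F = Set.range f := by
    ext y; constructor
    · rintro ⟨q, rfl⟩; induction q using Quotient.inductionOn with | _ a => exact ⟨a, rfl⟩
    · rintro ⟨a, rfl⟩; exact ⟨Quotient.mk _ a, rfl⟩
  calc s.ncard ≤ (Set.range F).ncard :=
        Set.ncard_le_ncard (hr ▸ hs) (Set.finite_range F)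
    _ ≤ nOrb G Ω := by
        rw [← Nat.card_coe_set_eq]; exact Finite.card_range_le F

theorem exists_gens (N : Type*) [Group N] [Finite N] :
    ∃ l : List N, Subgroup.closure {x | x ∈ l} = ⊤ ∧
      l.length ≤ ArithmeticFunction.cardFactors (Nat.card N) := by
  suffices ∀ d (K : Subgroup N), K.index ≤ d → ∀ l : List N,
      Subgroup.closure {x | x ∈ l} = K →
      l.length ≤ ArithmeticFunction.cardFactors (Nat.card K) →
      ∃ l' : List N, Subgroup.closure {x | x ∈ l'} = ⊤ ∧
        l'.length ≤ ArithmeticFunction.cardFactors (Nat.card N) by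
    exact this _ ⊥ le_rfl [] (by simp) (by simp)
  intro d
  induction d with
  | zero =>
    intro K hK
    have := K.index_ne_zero_of_finite
    omega
  | succ d ih =>
    intro K hK l hl hlen
    by_cases htop : K = ⊤
    · subst htop; exact ⟨l, hl, by simpa using hlen⟩
    obtain ⟨x, -, hx⟩ := SetLike.exists_of_lt (lt_top_iff_ne_top.2 htop)
    set K' := Subgroup.closure {y | y ∈ x :: l} with hK'
    have hle : K ≤ K' := hl ▸ Subgroup.closure_mono fun y hy => List.mem_cons_of_mem x hy
    have hlt : K < K' := lt_of_le_of_ne hle fun e =>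
      hx (e ▸ Subgroup.subset_closure List.mem_cons_self)
    refine ih K' ?_ (x :: l) rfl ?_
    · have := Subgroup.index_strictAnti hlt
      omega
    · have h1 : K < K' := hlt
      have := (SN.refl (A := K.subgroupOf K')).add_cardFactors_le
      obtain ⟨d, hd⟩ := Subgroup.card_dvd_of_le hle
      have hne : Nat.card K ≠ Nat.card K' := fun e =>
        hlt.ne (Subgroup.eq_of_le_of_card_ge hle e.ge)
      have hpos : 0 < Nat.card K' := Nat.card_pos
      have hd0 : d ≠ 0 := by rintro rfl; simp at hd; omega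
      have hd1 : d ≠ 1 := by rintro rfl; simp at hd; omega
      have : 0 < ArithmeticFunction.cardFactors d :=
        ArithmeticFunction.cardFactors_pos_iff_one_lt.2 (by omega)
      rw [hd, ArithmeticFunction.cardFactors_mul Nat.card_pos.ne' hd0, List.length_cons]
      omega

theorem cardFactors_le_log {m : ℕ} (hm : m ≠ 0) :
    ArithmeticFunction.cardFactors m ≤ Nat.log 2 m := by
  refine Nat.le_log_of_pow_le (by norm_num) ?_
  rw [ArithmeticFunction.cardFactors_apply]
  calc 2 ^ m.primeFactorsList.length ≤ m.primeFactorsList.prod :=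
        List.pow_card_le_prod _ _ fun p hp => (Nat.prime_of_mem_primeFactorsList hp).two_le
    _ = m := Nat.prod_primeFactorsList hm

theorem cardFactors_stab_le [Finite G] [Finite Ω] (a : Ω) (hfix : ∀ g : G, g • a = a) :
    ∀ (l : List Ω) (H : Subgroup G), ArithmeticFunction.cardFactors (Nat.card H) ≤
      ArithmeticFunction.cardFactors (Nat.card (H ⊓ fixingSubgroup G {x | x ∈ l} : Subgroup G)) +
        l.length * Nat.log 2 (Nat.card Ω - 1)
  | [], H => by simp
  | x :: l, H => by
    have h1 := cardFactors_stab_le a hfix l (H ⊓ stabilizer G x)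
    have e : H ⊓ stabilizer G x ⊓ fixingSubgroup G {y | y ∈ l} =
        H ⊓ fixingSubgroup G {y | y ∈ x :: l} := by
      rw [inf_assoc]; congr 1
      ext g
      simp only [Subgroup.mem_inf, mem_stabilizer_iff, mem_fixingSubgroup_iff, Set.mem_ofPred_eq,
        List.mem_cons, forall_eq_or_imp]
    rw [e] at h1
    have h2 : Nat.card (stabilizer H x) * (orbit H x).ncard = Nat.card H := by
      rw [← index_stabilizer, Subgroup.card_mul_index]
    have e2 : Nat.card (stabilizer H x) = Nat.card (H ⊓ stabilizer G x : Subgroup G) := by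
      refine Nat.card_congr ⟨fun h => ⟨h.1.1, h.1.2, h.2⟩, fun h => ⟨⟨h.1, h.2.1⟩, h.2.2⟩,
        fun h => rfl, fun h => rfl⟩
    have h3 : 0 < (orbit H x).ncard :=
      Set.Nonempty.ncard_pos (Set.toFinite _) ⟨x, mem_orbit_self x⟩
    have h4 : ArithmeticFunction.cardFactors (orbit H x).ncard ≤
        Nat.log 2 (Nat.card Ω - 1) := by
      refine (cardFactors_le_log h3.ne').trans ?_
      by_cases hx : x = a
      · have : orbit H x = {a} := by
          subst hx
          refine Set.eq_singleton_iff_unique_mem.2 ⟨mem_orbit_self x, ?_⟩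
          rintro _ ⟨g, rfl⟩; exact hfix g
        simp [this]
      · refine Nat.log_mono_right ?_
        calc (orbit H x).ncard ≤ ({a}ᶜ : Set Ω).ncard := by
              refine Set.ncard_le_ncard ?_ (Set.toFinite _)
              rintro _ ⟨g, rfl⟩ (h : g • x = a)
              exact hx (smul_left_cancel (g : G) (h.trans (hfix g).symm))
          _ = _ := by rw [Set.ncard_compl, Set.ncard_singleton]
    rw [← h2, ArithmeticFunction.cardFactors_mul Nat.card_pos.ne' h3.ne', e2,
      List.length_cons, Nat.succ_mul]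
    omega

theorem affine_arith (p k L : ℕ) (hp : 2 ≤ p) (hk : 2 ≤ k) (hL : L = Nat.log 2 (p ^ k - 1)) :
    3 * (k + k * L) + 4 ≤ 4 * p ^ k := by
  have hn : 4 ≤ p ^ k := by
    calc 4 = 2 ^ 2 := by norm_num
      _ ≤ p ^ 2 := Nat.pow_le_pow_left hp 2
      _ ≤ p ^ k := Nat.pow_le_pow_right (by omega) hk
  have h1 : 2 ^ L ≤ p ^ k - 1 := hL ▸ Nat.pow_log_le_self 2 (by omega)
  by_cases h5 : 5 ≤ L
  · have hkL : k ≤ L + 1 := by
      by_contra h
      have h6 : p ^ k - 1 < 2 ^ (L + 1) := hL ▸ Nat.lt_pow_succ_log_self (by norm_num) _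
      have h7 : 2 ^ (L + 2) ≤ p ^ k :=
        (Nat.pow_le_pow_right (by norm_num) (by omega)).trans (Nat.pow_le_pow_left hp k)
      rw [pow_succ] at h7
      omega
    have h8 : ∀ t, 5 ≤ t → 3 * ((t + 1) * (t + 1)) ≤ 4 * 2 ^ t := by
      intro t ht
      induction t, ht using Nat.le_induction with
      | base => norm_num
      | succ t ht ih => rw [pow_succ]; nlinarith
    have := h8 L h5
    have : k + k * L ≤ (L + 1) * (L + 1) := by nlinarith
    omega
  · have h6 : p ^ k - 1 < 2 ^ (L + 1) := hL ▸ Nat.lt_pow_succ_log_self (by norm_num) _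
    have h7 : 2 ^ (L + 1) ≤ 2 ^ 5 := Nat.pow_le_pow_right (by norm_num) (by omega)
    have hk5 : k ≤ 5 := by
      by_contra h
      have : 2 ^ 6 ≤ p ^ k :=
        (Nat.pow_le_pow_right (by norm_num) (by omega)).trans (Nat.pow_le_pow_left hp k)
      omega
    have hp5 : p ≤ 5 := by
      by_contra h
      have : 6 ^ 2 ≤ p ^ k :=
        (Nat.pow_le_pow_left (by omega) 2).trans (Nat.pow_le_pow_right (by omega) hk)
      omega
    subst hL
    interval_cases k <;> interval_cases p <;> norm_num at *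

theorem nat_ivt (f : ℕ → ℕ) (h0 : f 0 = 0) (hs : ∀ m, f (m + 1) ≤ f m + 1) {M v : ℕ}
    (hv : v ≤ f M) : ∃ m, f m = v := by
  have hex : ∃ m, v ≤ f m := ⟨M, hv⟩
  refine ⟨Nat.find hex, le_antisymm ?_ (Nat.find_spec hex)⟩
  rcases hm : Nat.find hex with _ | m
  · omega
  · have := Nat.find_min hex (show m < Nat.find hex by omega)
    have := hs m
    omega

section Nonabelian

variable [Finite G] [Finite Ω] {T : Type*} [Group T] [Finite T] [IsSimpleGroup T]
  {k : ℕ} {N : Subgroup G} [N.Normal]

/-- Conjugation on `N`, read in the model. -/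
noncomputable def conjModel (e : N ≃* (Fin k → T)) (g : G) : (Fin k → T) ≃* (Fin k → T) :=
  e.symm.trans ((MulAut.conjNormal g).trans e)

/-- The image of the point stabiliser of `N` in the model. -/
noncomputable def stabModel (e : N ≃* (Fin k → T)) (a : Ω) : Subgroup (Fin k → T) :=
  ((stabilizer G a).subgroupOf N).map e.toMonoidHom

theorem mem_stabModel (e : N ≃* (Fin k → T)) (a : Ω) (x : Fin k → T) :
    x ∈ stabModel e a ↔ ((e.symm x : N) : G) • a = a := by
  constructor
  · rintro ⟨n, hn, rfl⟩; simpa [Subgroup.mem_subgroupOf] using hn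
  · intro h; exact ⟨e.symm x, h, e.apply_symm_apply x⟩

theorem conjModel_smul (e : N ≃* (Fin k → T)) {a : Ω} {g : G} (hg : g • a = a)
    (x : Fin k → T) :
    ((e.symm (conjModel e g x) : N) : G) • a = g • ((e.symm x : N) : G) • a := by
  simp only [conjModel, MulEquiv.trans_apply, MulEquiv.symm_apply_apply,
    MulAut.conjNormal_apply, mul_smul]
  rw [inv_smul_eq_iff.2 hg.symm]

theorem conjModel_mem (e : N ≃* (Fin k → T)) {a : Ω} {g : G} (hg : g • a = a)
    {x : Fin k → T} (hx : x ∈ stabModel e a) : conjModel e g x ∈ stabModel e a := by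
  rw [mem_stabModel] at hx ⊢
  rw [conjModel_smul e hg, hx, hg]

theorem conjModel_inv (e : N ≃* (Fin k → T)) (g : G) (x : Fin k → T) :
    conjModel e g (conjModel e g⁻¹ x) = x := by
  simp only [conjModel, MulEquiv.trans_apply, MulEquiv.symm_apply_apply]
  rw [← MulAut.mul_apply, ← map_mul, mul_inv_cancel, map_one, MulAut.one_apply,
    MulEquiv.apply_symm_apply]

theorem factor_dichotomy (hna : ¬ IsMulCommutative T) [IsPreprimitive G Ω]
    [hNt : IsPretransitive N Ω] (hmin : ∀ M : Subgroup G, M.Normal → M ≤ N → M = ⊥ ∨ M = N)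
    (e : N ≃* (Fin k → T)) (a : Ω) (h2 : 2 ≤ Nat.card Ω) :
    k ≤ clen (stabModel e a) ∨ stabModel e a = ⊥ ∨ ∀ i t, ∃ d ∈ stabModel e a, d i = t := by
  set D := stabModel e a with hD
  let R : Fin k → Subgroup T := fun i => D.map (Pi.evalMonoidHom (fun _ => T) i)
  -- how the point stabiliser moves the factors
  have hmove : ∀ g : G, g • a = a → ∀ (σ : Equiv.Perm (Fin k)) (φ : Fin k → T ≃* T),
      (∀ x i, conjModel e g x i = φ i (x (σ i))) → ∀ i, R i = (R (σ i)).map (φ i).toMonoidHom := by
    intro g hg σ φ h i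
    ext t; constructor
    · rintro ⟨d, hd, rfl⟩
      refine ⟨_, ⟨conjModel e g⁻¹ d, conjModel_mem e (inv_smul_eq_iff.2 hg.symm) hd, rfl⟩, ?_⟩
      show φ i (conjModel e g⁻¹ d (σ i)) = d i
      rw [← h, conjModel_inv]
    · rintro ⟨_, ⟨d, hd, rfl⟩, rfl⟩
      exact ⟨conjModel e g d, conjModel_mem e hg hd, h d i⟩
  -- a set of factors that the point stabiliser keeps is empty or everything
  have hset : ∀ S : Set (Fin k), (∀ g : G, g • a = a → ∀ (σ : Equiv.Perm (Fin k))
      (φ : Fin k → T ≃* T), (∀ x i, conjModel e g x i = φ i (x (σ i))) → ∀ i, σ i ∈ S → i ∈ S) →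
      (∀ i, i ∉ S) ∨ (∀ i, i ∈ S) := by
    intro S hS
    let M : Subgroup G := ((supp (fun _ => T) S).map e.symm.toMonoidHom).map N.subtype
    have hMN : M ≤ N := Subgroup.map_subtype_le _
    have hMn : M.Normal := by
      refine ⟨?_⟩
      rintro _ ⟨_, ⟨x, hx, rfl⟩, rfl⟩ g
      obtain ⟨m, hm⟩ := MulAction.exists_smul_eq N a (g • a)
      have hh : ((m : G)⁻¹ * g) • a = a := by
        rw [mul_smul, inv_smul_eq_iff]; exact hm.symm
      obtain ⟨σ, φ, hσ⟩ := mulEquiv_factor hna (conjModel e ((m : G)⁻¹ * g))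
      have hx' : conjModel e ((m : G)⁻¹ * g) x ∈ supp (fun _ => T) S := fun i hi => by
        rw [hσ, hx (σ i) fun h' => hi (hS _ hh σ φ hσ i h'), map_one]
      refine ⟨_, ⟨e m * conjModel e ((m : G)⁻¹ * g) x * (e m)⁻¹,
        fun i hi => by simp [hx' i hi], rfl⟩, ?_⟩
      simp [conjModel, mul_assoc]
    rcases hmin M hMn hMN with hb | ht
    · left
      intro i hi
      obtain ⟨t, ht⟩ := exists_ne (1 : T)
      have hxm : Pi.mulSingle i t ∈ supp (fun _ => T) S := fun j hj =>
        Pi.mulSingle_eq_of_ne (fun e' => hj (by subst e'; exact hi)) _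
      have : ((e.symm (Pi.mulSingle i t) : N) : G) ∈ M := ⟨_, ⟨_, hxm, rfl⟩, rfl⟩
      rw [hb, Subgroup.mem_bot] at this
      have : e.symm (Pi.mulSingle i t) = 1 := Subtype.ext this
      rw [map_eq_one_iff _ e.symm.injective, Pi.mulSingle_eq_one_iff] at this
      exact ht this
    · right
      intro i
      by_contra hi
      obtain ⟨t, htne⟩ := exists_ne (1 : T)
      have h' : ((e.symm (Pi.mulSingle i t) : N) : G) ∈ M := ht.symm ▸ (e.symm _).2
      obtain ⟨_, ⟨x, hx, rfl⟩, hxe⟩ := h'
      have : x = Pi.mulSingle i t := e.symm.injective (Subtype.ext hxe)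
      have := hx i hi
      subst x
      rw [Pi.mulSingle_eq_same] at this
      exact htne this
  have htop : (∀ i, R i ≠ ⊤) ∨ ∀ i, R i = ⊤ :=
    (hset {i | R i = ⊤} fun g hg σ φ h i hi => by
      show R i = ⊤
      rw [hmove g hg σ φ h i, show R (σ i) = ⊤ from hi]
      exact Subgroup.map_top_of_surjective _ (φ i).surjective).imp (fun h i => h i) (fun h i => h i)
  rcases htop with hproper | htop
  swap
  · refine Or.inr (Or.inr fun i t => ?_)
    obtain ⟨d, hd, hdt⟩ := (htop i).symm ▸ Subgroup.mem_top t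
    exact ⟨d, hd, hdt⟩
  have hbot : (∀ i, R i ≠ ⊥) ∨ ∀ i, R i = ⊥ :=
    (hset {i | R i = ⊥} fun g hg σ φ h i hi => by
      show R i = ⊥
      rw [hmove g hg σ φ h i, show R (σ i) = ⊥ from hi, Subgroup.map_bot]).imp
      (fun h i => h i) (fun h i => h i)
  rcases hbot with hne | hbot
  swap
  · refine Or.inr (Or.inl (eq_bot_iff.2 fun d hd => Subgroup.mem_bot.2 (funext fun i => ?_)))
    exact (Subgroup.mem_bot).1 ((hbot i) ▸ (⟨d, hd, rfl⟩ : d i ∈ R i))
  -- every factor is proper and non-trivial
  left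
  let P : Subgroup (Fin k → T) := Subgroup.pi Set.univ R
  have hDP : D ≤ P := fun d hd i _ => ⟨d, hd, rfl⟩
  let P' : Subgroup G := (P.map e.symm.toMonoidHom).map N.subtype
  let B : Set Ω := orbit P' a
  have hst : stabilizer G a ≤ stabilizer G B := by
    intro g hg
    rw [mem_stabilizer_iff] at hg
    obtain ⟨σ, φ, hσ⟩ := mulEquiv_factor hna (conjModel e g)
    obtain ⟨σ', φ', hσ'⟩ := mulEquiv_factor hna (conjModel e g⁻¹)
    have hP : ∀ (g' : G), g' • a = a → ∀ (τ : Equiv.Perm (Fin k)) (ψ : Fin k → T ≃* T),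
        (∀ x i, conjModel e g' x i = ψ i (x (τ i))) → ∀ b ∈ B, g' • b ∈ B := by
      intro g' hg' τ ψ hτ b hb
      obtain ⟨⟨_, _, ⟨x, hx, rfl⟩, rfl⟩, rfl⟩ := hb
      have hx' : conjModel e g' x ∈ P := fun i _ => by
        show conjModel e g' x i ∈ R i
        rw [hτ, hmove g' hg' τ ψ hτ i]
        exact ⟨x (τ i), hx _ (Set.mem_univ _), rfl⟩
      exact ⟨⟨_, _, ⟨_, hx', rfl⟩, rfl⟩, conjModel_smul e hg' x⟩
    rw [mem_stabilizer_iff]
    refine Set.Subset.antisymm ?_ ?_
    · rintro _ ⟨b, hb, rfl⟩; exact hP g hg σ φ hσ b hb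
    · intro b hb
      exact ⟨g⁻¹ • b, hP g⁻¹ (inv_smul_eq_iff.2 hg.symm) σ' φ' hσ' b hb, smul_inv_smul g b⟩
  have hPB : P' ≤ stabilizer G B := by
    intro p hp
    rw [mem_stabilizer_iff]
    exact smul_orbit (⟨p, hp⟩ : P') a
  have hcase : stabilizer G B = stabilizer G a ∨ stabilizer G B = ⊤ := by
    have : Nontrivial Ω := Finite.one_lt_card_iff_nontrivial.1 (by omega)
    rcases eq_or_lt_of_le hst with h | h
    · exact Or.inl h.symm
    · exact Or.inr ((IsPreprimitive.isCoatom_stabilizer_of_isPreprimitive G a).2 _ h)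
  have hPD : P ≤ D := by
    rcases hcase with h | h
    · intro x hx
      rw [hD, mem_stabModel]
      exact mem_stabilizer_iff.1 (h ▸ hPB ⟨_, ⟨x, hx, rfl⟩, rfl⟩ : _ ∈ stabilizer G a)
    · -- then `P` is transitive, so it is everything
      exfalso
      have hBu : ∀ b : Ω, b ∈ B := by
        intro b
        obtain ⟨g, rfl⟩ := MulAction.exists_smul_eq G a b
        have hg : g ∈ stabilizer G B := h ▸ Subgroup.mem_top g
        rw [← mem_stabilizer_iff.1 hg]
        exact Set.smul_mem_smul_set (mem_orbit_self a)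
      rcases Nat.eq_zero_or_pos k with hk | hk
      · subst hk
        have : Subsingleton N := e.toEquiv.subsingleton
        have : ∀ b, b = a := fun b => by
          obtain ⟨m, rfl⟩ := MulAction.exists_smul_eq N a b
          rw [Subsingleton.elim m 1, one_smul]
        have : Subsingleton Ω := ⟨fun x y => (this x).trans (this y).symm⟩
        have := Finite.card_le_one_iff_subsingleton.2 this
        omega
      refine hproper ⟨0, hk⟩ (eq_top_iff.2 fun t _ => ?_)
      obtain ⟨⟨_, _, ⟨x, hx, rfl⟩, rfl⟩, hxa⟩ :=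
        hBu (((e.symm (Pi.mulSingle ⟨0, hk⟩ t) : N) : G) • a)
      have hd : x⁻¹ * Pi.mulSingle ⟨0, hk⟩ t ∈ D := by
        rw [hD, mem_stabModel, map_mul, map_inv, Subgroup.coe_mul, Subgroup.coe_inv, mul_smul,
          inv_smul_eq_iff]
        exact hxa.symm
      have h1 : (x * (x⁻¹ * Pi.mulSingle ⟨0, hk⟩ t)) ∈ P := mul_mem hx (hDP hd)
      rw [mul_inv_cancel_left] at h1
      simpa using h1 ⟨0, hk⟩ (Set.mem_univ _)
  have e3 : D ≃* (∀ i, R i) :=
    { toFun := fun d i => ⟨(d : Fin k → T) i, hDP d.2 i (Set.mem_univ _)⟩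
      invFun := fun f => ⟨fun i => f i, hPD fun i _ => (f i).2⟩
      left_inv := fun d => rfl
      right_inv := fun f => rfl
      map_mul' := fun a b => rfl }
  rw [clen_congr e3]
  have := card_le_clen_pi (fun i => R i) fun i => (Subgroup.nontrivial_iff_ne_bot _).2 (hne i)
  simpa using this

theorem orbits_from_weight (hna : ¬ IsMulCommutative T) [hNt : IsPretransitive N Ω]
    (e : N ≃* (Fin k → T)) (a : Ω)
    (hD : stabModel e a = ⊥ ∨ ∀ i t, ∃ d ∈ stabModel e a, d i = t) :
    3 * k + 4 ≤ 4 * nOrb (stabilizer G a) Ω + 3 * clen (stabModel e a) := by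
  obtain ⟨x₀, hx₀⟩ := exists_heavy hna (stabModel e a) hD
  let pt : (Fin k → T) → Ω := fun x => ((e.symm x : N) : G) • a
  have hpt : ∀ q, ∃ w x, pt x = q ∧ wt x = w := by
    intro q
    obtain ⟨m, hm⟩ := MulAction.exists_smul_eq N a q
    exact ⟨_, e m, by simp only [pt, MulEquiv.symm_apply_apply]; exact hm, rfl⟩
  let W : Ω → ℕ := fun q => Nat.find (hpt q)
  have hWle : ∀ x, W (pt x) ≤ wt x := fun x => Nat.find_min' (hpt _) ⟨x, rfl, rfl⟩
  have hW : ∀ q, ∃ x, pt x = q ∧ wt x = W q := fun q => Nat.find_spec (hpt q)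
  have hinv : ∀ (g : stabilizer G a) q, W (g • q) = W q := by
    have key : ∀ g : G, g • a = a → ∀ q, W (g • q) ≤ W q := by
      intro g hg q
      obtain ⟨x, rfl, hxw⟩ := hW q
      rw [← hxw, ← wt_mulEquiv hna (conjModel e g) x]
      refine le_of_eq_of_le ?_ (hWle _)
      exact congrArg W (conjModel_smul e hg x).symm
    rintro ⟨g, hg⟩ q
    refine le_antisymm (key g hg q) ?_
    have := key g⁻¹ (inv_smul_eq_iff.2 (Eq.symm hg)) (g • q)
    rwa [inv_smul_smul] at this
  let xm : ℕ → Fin k → T := fun m i => if (i : ℕ) < m then x₀ i else 1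
  have h0 : W (pt (xm 0)) = 0 := by
    have h1 : xm 0 = 1 := funext fun i => by simp [xm]
    have := hWle (xm 0)
    rw [wt_eq_zero.2 h1] at this
    omega
  have hs : ∀ m, W (pt (xm (m + 1))) ≤ W (pt (xm m)) + 1 := by
    intro m
    obtain ⟨y, hy, hyw⟩ := hW (pt (xm m))
    have e1 : pt (xm (m + 1) * (xm m)⁻¹ * y) = pt (xm (m + 1)) := by
      simp only [pt] at hy ⊢
      rw [map_mul, Subgroup.coe_mul, mul_smul, hy, ← mul_smul, ← Subgroup.coe_mul, ← map_mul,
        inv_mul_cancel_right]
    rw [← e1, ← hyw]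
    refine (hWle _).trans ?_
    by_cases hm : m < k
    · refine wt_le_wt_add_one ⟨m, hm⟩ fun i hi => ?_
      have : (i : ℕ) ≠ m := fun h => hi (Fin.ext h)
      have : xm (m + 1) i = xm m i := by
        simp only [xm]; split_ifs <;> first | rfl | (exfalso; omega)
      simp [this]
    · have : xm (m + 1) = xm m := funext fun i => by
        simp only [xm]; split_ifs <;> first | rfl | (exfalso; omega)
      rw [this, mul_inv_cancel, one_mul]
      omega
  have hk : xm k = x₀ := funext fun i => if_pos i.2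
  obtain ⟨y, hy, hyw⟩ := hW (pt x₀)
  have hheavy : 3 * k ≤ 4 * W (pt x₀) + 3 * clen (stabModel e a) := by
    have hd : x₀⁻¹ * y ∈ stabModel e a := by
      rw [mem_stabModel, map_mul, map_inv, Subgroup.coe_mul, Subgroup.coe_inv, mul_smul,
        inv_smul_eq_iff]
      exact hy
    have := hx₀ _ hd
    rwa [mul_inv_cancel_left, hyw, Fintype.card_fin] at this
  have hcount : W (pt x₀) + 1 ≤ nOrb (stabilizer G a) Ω := by
    have := le_nOrb (G := stabilizer G a) W hinv (Finset.range (W (pt x₀) + 1) : Set ℕ) ?_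
    · rwa [Set.ncard_coe_finset, Finset.card_range] at this
    intro v hv
    simp only [Finset.coe_range, Set.mem_Iio] at hv
    obtain ⟨m, hm⟩ := nat_ivt (fun m => W (pt (xm m))) h0 hs (M := k) (v := v)
      (by rw [hk]; omega)
    exact ⟨_, hm⟩
  omega

end Nonabelian

theorem two_le_nOrb_stabilizer [Finite Ω] (a : Ω) (h2 : 2 ≤ Nat.card Ω) :
    2 ≤ nOrb (stabilizer G a) Ω := by
  have : Nontrivial Ω := Finite.one_lt_card_iff_nontrivial.1 (by omega)
  obtain ⟨b, hb⟩ := exists_ne a
  have := le_nOrb (G := stabilizer G a) (fun x => decide (x = a))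
    (fun g x => by
      simp only [decide_eq_decide]
      exact ⟨fun h => smul_left_cancel g (h.trans g.2.symm), fun h => by subst h; exact g.2⟩)
    Set.univ (by
      rintro (_ | _) -
      · exact ⟨b, by simpa using hb⟩
      · exact ⟨a, by simp⟩)
  simpa [Set.ncard_univ] using this

theorem prim_step [Finite G] [Finite Ω] [FaithfulSMul G Ω] [IsPreprimitive G Ω]
    (h2 : 2 ≤ Nat.card Ω)
    (hst : ∀ a : Ω, 3 * clen (stabilizer G a) + 4 * nOrb (stabilizer G a) Ω ≤ 4 * Nat.card Ω) :
    3 * clen G + 4 ≤ 4 * Nat.card Ω := by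
  have : Nontrivial Ω := Finite.one_lt_card_iff_nontrivial.1 (by omega)
  have : Nontrivial G := by
    by_contra h
    rw [not_nontrivial_iff_subsingleton] at h
    obtain ⟨x, y, hxy⟩ := exists_pair_ne Ω
    obtain ⟨g, hg⟩ := MulAction.exists_smul_eq G x y
    rw [Subsingleton.elim g 1, one_smul] at hg
    exact hxy hg
  obtain ⟨N, hNn, hNne, hmin⟩ := Cfsg.Agent.Solvable.exists_minimal_normal G
  have := hNn
  have : IsPretransitive N Ω := by
    refine IsQuasiPreprimitive.isPretransitive_of_normal fun hfix => hNne ?_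
    refine eq_bot_iff.2 fun n hn => Subgroup.mem_bot.2 ?_
    refine eq_of_smul_eq_smul (α := Ω) fun x => ?_
    have : x ∈ fixedPoints N Ω := hfix ▸ Set.mem_univ x
    rw [one_smul]; exact this ⟨n, hn⟩
  obtain ⟨a⟩ := (inferInstance : Nonempty Ω)
  have hNnt : Nontrivial N := (Subgroup.nontrivial_iff_ne_bot N).2 hNne
  obtain ⟨T, hT, k, hk, ⟨e⟩⟩ := PermB.exists_simple_power (K := ↥N) fun M hM => by
    have hn : (M.map N.subtype).Normal := by
      refine ⟨fun x hx g => ?_⟩
      obtain ⟨y, hy, rfl⟩ := Subgroup.mem_map.1 hx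
      exact ⟨MulAut.conjNormal g y, hM _ (Set.mem_univ _) y hy, rfl⟩
    rcases hmin _ hn (Subgroup.map_subtype_le M) with h | h
    · exact Or.inl ((Subgroup.map_eq_bot_iff_of_injective M N.subtype_injective).1 h)
    · refine Or.inr (Subgroup.map_injective N.subtype_injective ?_)
      rw [h, ← MonoidHom.range_eq_map, Subgroup.range_subtype]
  -- `clen G ≤ k + clen (G ⧸ N)` and `clen N_a + clen (G ⧸ N) ≤ clen G_a`
  let f : stabilizer G a →* G ⧸ N := (QuotientGroup.mk' N).comp (stabilizer G a).subtype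
  have hf : Function.Surjective f := by
    intro q
    obtain ⟨g, rfl⟩ := QuotientGroup.mk'_surjective N q
    obtain ⟨m, hm⟩ := MulAction.exists_smul_eq N (g • a) a
    refine ⟨⟨(m : G) * g, by rw [mem_stabilizer_iff, mul_smul]; exact hm⟩, ?_⟩
    simp [f, (QuotientGroup.eq_one_iff _).2 m.2]
  have h1 : clen G ≤ clen N + clen (G ⧸ N) := clen_le_add
  have h2' : clen f.ker + clen (G ⧸ N) ≤ clen (stabilizer G a) := clen_ker_add_le f hf
  have hkerEq : clen f.ker = clen ((stabilizer G a).subgroupOf N) := by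
    refine clen_congr
      { toFun := fun x => ⟨⟨x.1.1, (QuotientGroup.eq_one_iff _).1 x.2⟩, x.1.2⟩
        invFun := fun y => ⟨⟨y.1.1, y.2⟩, (QuotientGroup.eq_one_iff _).2 y.1.2⟩
        left_inv := fun x => rfl
        right_inv := fun y => rfl
        map_mul' := fun x y => rfl }
  have hcN : clen N ≤ k := (clen_congr e).trans_le (clen_fin_pow k)
  have hst' := hst a
  by_cases hna : IsMulCommutative T
  · have hTp : (Nat.card T).Prime := by
      letI : CommGroup T := { (inferInstance : Group T) with mul_comm := hna.is_comm.comm }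
      exact IsSimpleGroup.prime_card
    have hNcard : Nat.card N = (Nat.card T) ^ k := by
      rw [Nat.card_congr e.toEquiv, Nat.card_fun, Nat.card_fin]
    have hab : ∀ m n : N, m * n = n * m := fun m n => e.injective (by
      rw [map_mul, map_mul]; funext i; exact hna.is_comm.comm _ _)
    have hfree : ∀ m : N, (m : G) • a = a → m = 1 := by
      intro m hm
      refine Subtype.ext (eq_of_smul_eq_smul (α := Ω) fun x => ?_)
      obtain ⟨n, rfl⟩ := MulAction.exists_smul_eq N a x
      show (m : G) • (n : G) • a = (1 : G) • (n : G) • a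
      rw [one_smul, ← mul_smul, ← Subgroup.coe_mul, hab, Subgroup.coe_mul, mul_smul, hm]
    have hΩ : Nat.card Ω = Nat.card N := by
      refine (Nat.card_congr (Equiv.ofBijective (fun m : N => (m : G) • a) ⟨?_, ?_⟩)).symm
      · intro m n h
        have := hfree (n⁻¹ * m) (by
          rw [Subgroup.coe_mul, mul_smul, Subgroup.coe_inv]; exact inv_smul_eq_iff.2 h)
        exact (inv_mul_eq_one.1 this).symm
      · intro x; exact MulAction.exists_smul_eq N a x
    rcases Nat.lt_or_ge k 2 with hk1 | hk2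
    · have := two_le_nOrb_stabilizer (G := G) a h2
      omega
    obtain ⟨l, hl, hlen⟩ := exists_gens N
    have hlk : l.length ≤ k := by
      rw [hNcard, ArithmeticFunction.cardFactors_apply_prime_pow hTp] at hlen
      exact hlen
    have hfixa : ∀ g : stabilizer G a, g • a = a := fun g => g.2
    have hb := cardFactors_stab_le (G := stabilizer G a) a hfixa
      (l.map fun m : N => (m : G) • a) ⊤
    have htriv : (⊤ ⊓ fixingSubgroup (stabilizer G a)
        {x | x ∈ l.map fun m : N => (m : G) • a} : Subgroup (stabilizer G a)) = ⊥ := by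
      refine eq_bot_iff.2 fun g hg => Subgroup.mem_bot.2 ?_
      rw [top_inf_eq, mem_fixingSubgroup_iff] at hg
      have hcen : ∀ m : N, (g : G) * m * (g : G)⁻¹ = m := by
        intro m
        have hcl : m ∈ Subgroup.closure {x | x ∈ l} := hl ▸ Subgroup.mem_top m
        induction hcl using Subgroup.closure_induction with
        | mem x hx =>
          have h := hg _ (List.mem_map.2 ⟨x, hx, rfl⟩)
          have := hfree (x⁻¹ * MulAut.conjNormal (g : G) x) (by
            rw [Subgroup.coe_mul, mul_smul, Subgroup.coe_inv, MulAut.conjNormal_apply, mul_smul,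
              mul_smul, inv_smul_eq_iff.2 (Eq.symm g.2), inv_smul_eq_iff]
            exact h)
          simpa using congrArg Subtype.val (inv_mul_eq_one.1 this).symm
        | one => simp
        | mul x y _ _ hx hy =>
          rw [Subgroup.coe_mul]
          calc (g : G) * (x * y) * (g : G)⁻¹ = ((g : G) * x * (g : G)⁻¹) * (g * y * (g : G)⁻¹) := by
                group
            _ = x * y := by rw [hx, hy]
        | inv x _ hx =>
          rw [Subgroup.coe_inv]
          calc (g : G) * (x : G)⁻¹ * (g : G)⁻¹ = ((g : G) * x * (g : G)⁻¹)⁻¹ := by group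
            _ = (x : G)⁻¹ := by rw [hx]
      refine Subtype.ext (eq_of_smul_eq_smul (α := Ω) fun x => ?_)
      obtain ⟨m, rfl⟩ := MulAction.exists_smul_eq N a x
      show (g : G) • (m : G) • a = (1 : G) • (m : G) • a
      have hgm : (g : G) * m = m * g := by
        conv_rhs => rw [← hcen m]
        group
      rw [one_smul, ← mul_smul, hgm, mul_smul, show (g : G) • a = a from g.2]
    rw [htriv, Subgroup.card_bot, List.length_map, Subgroup.card_top] at hb
    simp only [ArithmeticFunction.cardFactors_one, zero_add] at hb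
    have hcs : clen (stabilizer G a) ≤ k * Nat.log 2 (Nat.card Ω - 1) :=
      clen_le_cardFactors.trans (hb.trans (Nat.mul_le_mul_right _ hlk))
    have := affine_arith (Nat.card T) k _ hTp.two_le hk2 rfl
    rw [hΩ, hNcard] at hcs ⊢
    omega
  · have hkey : 3 * k + 4 ≤ 4 * nOrb (stabilizer G a) Ω + 3 * clen (stabModel e a) := by
      rcases factor_dichotomy hna hmin e a h2 with h | h
      · have := two_le_nOrb_stabilizer (G := G) a h2
        omega
      · exact orbits_from_weight hna e a h
    have hD : clen (stabModel e a) = clen ((stabilizer G a).subgroupOf N) :=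
      (clen_congr (Subgroup.equivMapOfInjective _ _ e.injective)).symm
    omega

end Cfsg.Agent.MaxSub.CompLen
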