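import Cfsg.Agent.MaxSub.CompLen.Power

/-!
# A coset of large minimal weight
-/

set_option autoImplicit false

namespace Cfsg.Agent.MaxSub.CompLen

open scoped Classical

theorem four_le_card {T : Type*} [Group T] [Finite T] [Nontrivial T]
    (hna : ¬ IsMulCommutative T) : 4 ≤ Nat.card T := by
  by_contra h
  have hp : (Nat.card T).Prime := by
    have h2 : 1 < Nat.card T := Finite.one_lt_card
    rcases (by omega : Nat.card T = 2 ∨ Nat.card T = 3) with h | h <;> rw [h] <;> norm_num
  have := Fact.mk hp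
  have : IsCyclic T := isCyclic_of_prime_card rfl
  exact hna inferInstance

theorem exists_heavy {T : Type*} [Group T] [Finite T] [IsSimpleGroup T]
    (hna : ¬ IsMulCommutative T) {ι : Type*} [Fintype ι] (D : Subgroup (ι → T))
    (hD : D = ⊥ ∨ ∀ i t, ∃ d ∈ D, d i = t) :
    ∃ x : ι → T, ∀ d ∈ D, 3 * Fintype.card ι ≤ 4 * wt (x * d) + 3 * clen D := by
  rcases hD with rfl | hsub
  · obtain ⟨t, ht⟩ := exists_ne (1 : T)
    refine ⟨fun _ => t, fun d hd => ?_⟩
    rw [Subgroup.mem_bot] at hd
    have : wt ((fun _ : ι => t) * d) = Fintype.card ι := by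
      rw [hd, mul_one, wt, Finset.filter_true_of_mem (fun i _ => ht), Finset.card_univ]
    omega
  -- a minimal set of coordinates on which `D` is faithful
  obtain ⟨J, hJ, hJmin⟩ : ∃ J : Finset ι, (∀ d ∈ D, (∀ j ∈ J, d j = 1) → d = 1) ∧
      ∀ J' ⊂ J, ¬ ∀ d ∈ D, (∀ j ∈ J', d j = 1) → d = 1 := by
    obtain ⟨J, hJ⟩ := Finset.exists_minimal
      (s := Finset.univ.filter fun J : Finset ι => ∀ d ∈ D, (∀ j ∈ J, d j = 1) → d = 1)
      ⟨Finset.univ, by simp [funext_iff]⟩
    refine ⟨J, (Finset.mem_filter.1 hJ.1).2, fun J' hJ' h => ?_⟩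
    exact hJ'.2 (hJ.2 (Finset.mem_filter.2 ⟨Finset.mem_univ _, h⟩) hJ'.1)
  let π : D →* (J → T) :=
    MonoidHom.mk' (fun d j => (d : ι → T) j) fun a b => rfl
  have hπi : Function.Injective π := (injective_iff_map_eq_one π).2 fun d hd =>
    Subtype.ext (hJ d d.2 fun j hj => congrFun hd ⟨j, hj⟩)
  have hπs : Function.Surjective π := by
    intro f
    refine MonoidHom.mem_range.1 (Subgroup.pi_mem_of_mulSingle_mem f fun j => ?_)
    -- the values at `j` of elements vanishing on the other coordinates of `J`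
    let K : Subgroup T :=
      { carrier := {t | Pi.mulSingle j t ∈ π.range}
        one_mem' := by simp only [Set.mem_ofPred_eq, Pi.mulSingle_one]; exact one_mem _
        mul_mem' := fun ha hb => by
          simp only [Set.mem_ofPred_eq, Pi.mulSingle_mul] at *; exact mul_mem ha hb
        inv_mem' := fun ha => by
          simp only [Set.mem_ofPred_eq, Pi.mulSingle_inv] at *; exact inv_mem ha }
    have hKn : K.Normal := ⟨fun t ht g => by
      obtain ⟨d, hd, rfl⟩ := hsub j g
      obtain ⟨a, ha⟩ := ht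
      refine ⟨⟨d, hd⟩ * a * (⟨d, hd⟩)⁻¹, ?_⟩
      rw [map_mul, map_mul, map_inv, ha]
      funext l
      by_cases hl : l = j
      · subst hl; simp [π]
      · simp [Pi.mulSingle_eq_of_ne hl]⟩
    have hKne : K ≠ ⊥ := by
      have h1 := hJmin _ (Finset.erase_ssubset j.2)
      push Not at h1
      obtain ⟨d, hd, hd1, hdne⟩ := h1
      have hdj : d j ≠ 1 := fun e => hdne (hJ d hd fun l hl => by
        by_cases hlj : l = j
        · exact hlj ▸ e
        · exact hd1 l (Finset.mem_erase.2 ⟨hlj, hl⟩))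
      intro hK
      refine hdj ((Subgroup.eq_bot_iff_forall _).1 hK (d j) ?_)
      refine ⟨⟨d, hd⟩, ?_⟩
      funext l
      by_cases hl : l = j
      · subst hl; simp [π]
      · rw [Pi.mulSingle_eq_of_ne hl]
        exact hd1 l (Finset.mem_erase.2 ⟨fun e => hl (Subtype.ext e), l.2⟩)
    have : f j ∈ K := by rw [hKn.eq_bot_or_eq_top.resolve_left hKne]; exact Subgroup.mem_top _
    exact this
  let e : D ≃* (J → T) := MulEquiv.ofBijective π ⟨hπi, hπs⟩
  have hclen : J.card ≤ clen D := by
    rw [clen_congr e]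
    have := card_le_clen_pi (fun _ : J => T) fun _ => inferInstance
    simpa using this
  have hfac : ∀ i, ∃ (j : J) (φ : T ≃* T), ∀ d ∈ D, d i = φ (d j) := by
    intro i
    let f : (J → T) →* T :=
      (Pi.evalMonoidHom (fun _ => T) i).comp (D.subtype.comp e.symm.toMonoidHom)
    obtain ⟨j, φ, h⟩ := surj_factor hna f fun t => by
      obtain ⟨d, hd, rfl⟩ := hsub i t
      exact ⟨e ⟨d, hd⟩, by simp [f]⟩
    refine ⟨j, φ, fun d hd => ?_⟩
    have h' := h (e ⟨d, hd⟩)
    simp [f] at h'
    exact h'
  choose b φ hφ using hfac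
  -- four colours
  obtain ⟨c, hc⟩ : ∃ c : Fin 4 → T, Function.Injective c := by
    have := Fintype.ofFinite T
    obtain ⟨f⟩ := Function.Embedding.nonempty_of_card_le (α := Fin 4) (β := T)
      (by rw [Fintype.card_fin, ← Nat.card_eq_fintype_card]; exact four_le_card hna)
    exact ⟨f, f.injective⟩
  let rank : ι → ℕ := fun i =>
    Fintype.equivFin {l // b l = b i} ⟨i, rfl⟩
  have hrank : ∀ i i', b i = b i' → rank i = rank i' → i = i' := by
    intro i i' hb hr
    have key : ∀ (j : J) (h : b i = j) (h' : b i' = j),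
        (Fintype.equivFin {l // b l = j} ⟨i, h⟩ : ℕ) =
          Fintype.equivFin {l // b l = j} ⟨i', h'⟩ → i = i' := fun j h h' hh =>
      congrArg Subtype.val ((Fintype.equivFin {l // b l = j}).injective (Fin.ext hh))
    have e1 : ∀ (j : J) (h : b i = j),
        rank i = (Fintype.equivFin {l // b l = j} ⟨i, h⟩ : ℕ) := by
      intro j h; subst h; rfl
    have e2 : ∀ (j : J) (h : b i' = j),
        rank i' = (Fintype.equivFin {l // b l = j} ⟨i', h⟩ : ℕ) := by
      intro j h; subst h; rfl
    exact key (b i) rfl hb.symm ((e1 _ rfl).symm.trans (hr.trans (e2 _ hb.symm)))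
  have hlt : ∀ (j : J) i, b i = j → rank i < (Finset.univ.filter fun l => b l = j).card := by
    intro j i h; subst h
    exact lt_of_lt_of_eq (Fin.isLt _) (Fintype.card_subtype _)
  refine ⟨fun i => φ i (c ⟨rank i % 4, Nat.mod_lt _ (by norm_num)⟩), fun d hd => ?_⟩
  set x : ι → T := fun i => φ i (c ⟨rank i % 4, Nat.mod_lt _ (by norm_num)⟩) with hx
  set Z := Finset.univ.filter fun i => (x * d) i = 1 with hZ
  have hwt : Z.card + wt (x * d) = Fintype.card ι := by
    rw [hZ, wt, ← Finset.card_univ]
    exact Finset.card_filter_add_card_filter_not _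
  have hZj : ∀ j : J, 4 * (Z.filter fun i => b i = j).card
      ≤ (Finset.univ.filter fun l => b l = j).card + 3 := by
    intro j
    rcases (Z.filter fun i => b i = j).eq_empty_or_nonempty with he | ⟨i₀, hi₀⟩
    · simp [he]
    have hval : ∀ i ∈ Z.filter fun i => b i = j,
        c ⟨rank i % 4, Nat.mod_lt _ (by norm_num)⟩ = (d j)⁻¹ := by
      intro i hi
      simp only [hZ, hx, Finset.mem_filter, Finset.mem_univ, true_and, Pi.mul_apply] at hi
      obtain ⟨h1, rfl⟩ := hi
      rw [hφ i d hd, ← map_mul, map_eq_one_iff _ (φ i).injective] at h1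
      exact eq_inv_of_mul_eq_one_left h1
    refine le_trans (Nat.mul_le_mul_left 4 (Finset.card_le_card_of_injOn rank
      (t := (Finset.range (Finset.univ.filter fun l => b l = j).card).filter
        fun r => r % 4 = rank i₀ % 4) ?_ ?_)) (count_mod_four _ _)
    · intro i hi
      have h := hc ((hval i hi).trans (hval i₀ hi₀).symm)
      simp only [Fin.mk.injEq] at h
      rw [Finset.mem_coe, Finset.mem_filter, Finset.mem_range]
      exact ⟨hlt j i (Finset.mem_filter.1 hi).2, h⟩
    · intro i hi i' hi' h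
      exact hrank i i' ((Finset.mem_filter.1 hi).2.trans (Finset.mem_filter.1 hi').2.symm) h
  have hsum : 4 * Z.card ≤ Fintype.card ι + 3 * J.card := by
    rw [Finset.card_eq_sum_card_fiberwise (f := b) (t := Finset.univ) (by simp),
      Finset.mul_sum]
    refine (Finset.sum_le_sum fun j _ => hZj j).trans (le_of_eq ?_)
    rw [Finset.sum_add_distrib,
      ← Finset.card_eq_sum_card_fiberwise (f := b) (t := Finset.univ) (by simp),
      Finset.card_univ, Finset.sum_const, Finset.card_univ, Fintype.card_coe, smul_eq_mul]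
    ring
  omega

end Cfsg.Agent.MaxSub.CompLen
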